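import Mathlib

/-!
# Deligne's completeness theorem, part 1: good/bad objects and systems (helper74)

Fix a small site `(C, J)` with finite limits, an object `X₀` and a sieve `S₀` on `X₀`.
An object `U` of `Over X₀` is *good* if the pullback of `S₀` to `U` is covering.
-/

set_option autoImplicit false
universe u
open CategoryTheory CategoryTheory.Limits Opposite

namespace Groth.Agent.Lib.Helper74.Deligne

variable {C : Type u} [SmallCategory C] (J : GrothendieckTopology C) {X₀ : C} (S₀ : Sieve X₀)

/-- `U → X₀` is good if the pullback of `S₀` along it is covering. -/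
def Good (U : Over X₀) : Prop := S₀.pullback U.hom ∈ J U.left

variable {J S₀}

lemma Good.of_hom {V W : Over X₀} (f : V ⟶ W) (hW : Good J S₀ W) : Good J S₀ V := by
  unfold Good at hW ⊢
  have := J.pullback_stable f.left hW
  rwa [← Sieve.pullback_comp, Over.w f] at this

lemma Good.of_cover {U : Over X₀} (R : Sieve U.left) (hR : R ∈ J U.left)
    (h : ∀ ⦃Y : C⦄ (g : Y ⟶ U.left), R g → Good J S₀ (Over.mk (g ≫ U.hom))) : Good J S₀ U := by
  unfold Good
  refine J.transitive hR _ (fun Y g hg => ?_)
  have := h g hg
  unfold Good at this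
  rw [← Sieve.pullback_comp]
  exact this

lemma not_mem_of_not_good {U : Over X₀} (h : ¬ Good J S₀ U) : ¬ S₀ U.hom := by
  intro hU
  apply h
  unfold Good
  rw [Sieve.pullback_eq_top_of_mem S₀ hU]
  exact J.top_mem _

end Groth.Agent.Lib.Helper74.Deligne
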