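import Groth.Agent.Lib.Helper74.Deligne.Tower

/-!
# Yoneda into abelian sheaves for the regular topology on a small abelian category (helper74)
-/

set_option autoImplicit false
universe u
open CategoryTheory CategoryTheory.Limits Opposite

namespace Groth.Agent.Lib.Helper74.Deligne

variable {A : Type u} [SmallCategory A] [Abelian A] [Preregular A]

lemma effectiveEpi_of_epi {X Y : A} (f : X ⟶ Y) [Epi f] : EffectiveEpi f := by
  have := IsRegularEpiCategory.regularEpiOfEpi f
  infer_instance

lemma finitary_regular : Finitary (regularTopology A) := by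
  intro U S hS
  rw [regularTopology.mem_sieves_iff_hasEffectiveEpi] at hS
  obtain ⟨Y, π, hπ, hS⟩ := hS
  refine ⟨1, fun _ => Y, fun _ => π, fun _ => hS, ?_⟩
  rw [regularTopology.mem_sieves_iff_hasEffectiveEpi]
  exact ⟨Y, π, hπ, Sieve.ofArrows_mk _ _ (0 : Fin 1)⟩

/-- the additive Yoneda presheaf is a sheaf for the regular topology -/
lemma isSheaf_preadditiveYoneda (X : A) :
    Presheaf.IsSheaf (regularTopology A) (preadditiveYoneda.obj X) := by
  rw [Presheaf.isSheaf_iff_isSheaf_forget (s := forget AddCommGrpCat)]
  rw [isSheaf_iff_isSheaf_of_type]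
  exact regularTopology.isSheaf_yoneda_obj X

/-- sheaf-valued additive Yoneda -/
noncomputable def yonedaSheaf : A ⥤ Sheaf (regularTopology A) AddCommGrpCat.{u} where
  obj X := ⟨preadditiveYoneda.obj X, isSheaf_preadditiveYoneda X⟩
  map f := ⟨preadditiveYoneda.map f⟩
  map_id X := by ext : 1; exact preadditiveYoneda.map_id X
  map_comp f g := by ext : 1; exact preadditiveYoneda.map_comp f g

/-- the composite of the statement agrees with `yonedaSheaf`. -/
noncomputable def compIso :
    (preadditiveYoneda ⋙ presheafToSheaf (regularTopology A) AddCommGrpCat.{u}) ≅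
      yonedaSheaf (A := A) :=
  Functor.isoWhiskerRight (show preadditiveYoneda ≅ yonedaSheaf (A := A) ⋙ sheafToPresheaf _ _ from
    Iso.refl _) _ ≪≫ Functor.associator _ _ _ ≪≫
    Functor.isoWhiskerLeft _ (sheafificationNatIso _ _).symm ≪≫ Functor.rightUnitor _

instance : (yonedaSheaf (A := A)).Faithful where
  map_injective {X Y} f g h := by
    apply preadditiveYoneda.map_injective
    exact congrArg (fun φ => φ.hom) h

instance : (yonedaSheaf (A := A)).Full where
  map_surjective {X Y} f := by
    obtain ⟨g, hg⟩ := preadditiveYoneda.map_surjective f.hom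
    exact ⟨g, by ext : 1; exact hg⟩

instance : PreservesFiniteLimits (preadditiveYoneda (C := A)) := by
  constructor
  intro K _ _
  constructor
  intro G
  apply preservesLimit_of_evaluation
  intro Y
  change PreservesLimit G (preadditiveCoyoneda.obj Y)
  infer_instance

instance : PreservesFiniteLimits
    (preadditiveYoneda ⋙ presheafToSheaf (regularTopology A) AddCommGrpCat.{u}) :=
  inferInstance

instance : PreservesFiniteLimits (yonedaSheaf (A := A)) :=
  preservesFiniteLimits_of_natIso compIso

attribute [local instance] preservesBinaryBiproducts_of_preservesBinaryProducts in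
instance : (yonedaSheaf (A := A)).Additive :=
  Functor.additive_of_preservesBinaryBiproducts _

/-- the sheaf-valued Yoneda functor preserves epimorphisms -/
lemma epi_yonedaSheaf_map {X Y : A} (π : X ⟶ Y) [Epi π] : Epi (yonedaSheaf.map π) := by
  have : Sheaf.IsLocallySurjective (yonedaSheaf.map π) := by
    constructor
    intro U s
    -- `s : U ⟶ Y`
    let s' : U ⟶ Y := s
    have hepi : Epi (pullback.snd π s') := inferInstance
    have := effectiveEpi_of_epi (pullback.snd π s')
    rw [regularTopology.mem_sieves_iff_hasEffectiveEpi]
    refine ⟨pullback π s', pullback.snd π s', this, ?_⟩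
    refine ⟨(pullback.fst π s' : pullback π s' ⟶ X), ?_⟩
    exact pullback.condition
  infer_instance

instance : PreservesFiniteColimits (yonedaSheaf (A := A)) := by
  rw [Functor.preservesFiniteColimits_iff_forall_exact_map_and_epi]
  intro S hS
  have h2 := (Functor.preservesFiniteLimits_iff_forall_exact_map_and_mono
    (yonedaSheaf (A := A))).1 inferInstance S hS
  have : Epi S.g := hS.epi_g
  exact ⟨h2.1, epi_yonedaSheaf_map S.g⟩

end Groth.Agent.Lib.Helper74.Deligne
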