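import Groth.Agent.Lib.Helper74.Deligne.Basic

/-!
# Deligne completeness, part 2: systems of bad objects and the one-step extension (helper74)

`Sys`: a directed-preorder-indexed system of bad objects over `X₀`.  `Sys.next`: the one-step
extension in which every covering sieve of every object of the system is split (Rado selection
lemma for the compactness argument).
-/

set_option autoImplicit false
universe u
open CategoryTheory CategoryTheory.Limits Opposite

namespace Groth.Agent.Lib.Helper74.Deligne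

variable {C : Type u} [SmallCategory C] [HasFiniteLimits C] (J : GrothendieckTopology C)
  {X₀ : C} (S₀ : Sieve X₀)

/-- A system of bad objects over `X₀`, indexed by a directed preorder. -/
structure Sys where
  N : Type u
  [ord : Preorder N]
  [dir : IsDirected N (· ≥ ·)]
  [ne : Nonempty N]
  p : N ⥤ Over X₀
  bad : ∀ i, ¬ Good J S₀ (p.obj i)

attribute [instance] Sys.ord Sys.dir Sys.ne

variable {J S₀}

/-- Finitary topology hypothesis. -/
def Finitary (J : GrothendieckTopology C) : Prop :=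
  ∀ (U : C) (S : Sieve U), S ∈ J U →
      ∃ (n : ℕ) (V : Fin n → C) (g : ∀ k, V k ⟶ U), (∀ k, S (g k)) ∧ Sieve.ofArrows V g ∈ J U

variable (hJ : Finitary J) (s : Sys J S₀)

/-- A task: an index and a covering sieve of the corresponding object. -/
structure Task : Type u where
  idx : s.N
  R : Sieve (s.p.obj idx).left
  hR : R ∈ J (s.p.obj idx).left

namespace Task
variable {s}
variable (t : Task s)

include hJ in
omit [HasFiniteLimits C] in
lemma ex : ∃ (n : ℕ) (V : Fin n → C) (g : ∀ k, V k ⟶ (s.p.obj t.idx).left),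
    (∀ k, t.R (g k)) ∧ Sieve.ofArrows V g ∈ J (s.p.obj t.idx).left := hJ _ t.R t.hR

noncomputable def n : ℕ := (ex hJ t).choose
noncomputable def V : Fin (n hJ t) → C := (ex hJ t).choose_spec.choose
noncomputable def g (k : Fin (n hJ t)) : V hJ t k ⟶ (s.p.obj t.idx).left :=
  (ex hJ t).choose_spec.choose_spec.choose k
omit [HasFiniteLimits C] in
lemma mem (k : Fin (n hJ t)) : t.R (g hJ t k) :=
  (ex hJ t).choose_spec.choose_spec.choose_spec.1 k
omit [HasFiniteLimits C] in
lemma cov : Sieve.ofArrows (V hJ t) (g hJ t) ∈ J (s.p.obj t.idx).left :=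
  (ex hJ t).choose_spec.choose_spec.choose_spec.2

/-- The `k`-th member of the chosen finite family, as an object over `X₀`. -/
noncomputable def Y (k : Fin (n hJ t)) : Over X₀ := Over.mk (g hJ t k ≫ (s.p.obj t.idx).hom)

noncomputable def gOver (k : Fin (n hJ t)) : Y hJ t k ⟶ s.p.obj t.idx := Over.homMk (g hJ t k)

omit [HasFiniteLimits C] in
lemma n_pos : 0 < n hJ t := by
  by_contra h0
  have h0' : n hJ t = 0 := by omega
  apply s.bad t.idx
  refine Good.of_cover _ (cov hJ t) ?_
  intro Y g hg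
  rw [Sieve.mem_ofArrows_iff] at hg
  obtain ⟨k, _, _⟩ := hg
  exact (Fin.elim0 (h0' ▸ k))

end Task

section Loc

variable {s}
variable (i : s.N) (F : Finset (Task s)) (h : ∀ t ∈ F, i ≤ t.idx)
  (cl : ∀ t : F, Fin (Task.n hJ t.1))

/-- product of the base objects of the tasks in `F` -/
noncomputable abbrev prodP : Over X₀ := ∏ᶜ fun t : F => s.p.obj t.1.idx

/-- product of the chosen members -/
noncomputable abbrev prodY : Over X₀ := ∏ᶜ fun t : F => Task.Y hJ t.1 (cl t)

noncomputable def mapA : s.p.obj i ⟶ prodP F :=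
  Pi.lift fun t => s.p.map (homOfLE (h t.1 t.2))

noncomputable def mapB : prodY hJ F cl ⟶ prodP F :=
  Limits.Pi.map fun t => Task.gOver hJ t.1 (cl t)

/-- The object `p(i) ×_{∏ p(i_t)} ∏ Y_t`. -/
noncomputable abbrev objLoc : Over X₀ := pullback (mapA i F h) (mapB hJ F cl)

noncomputable def objLoc.fst : objLoc hJ i F h cl ⟶ s.p.obj i := pullback.fst _ _

noncomputable def objLoc.snd (t : F) : objLoc hJ i F h cl ⟶ Task.Y hJ t.1 (cl t) :=
  pullback.snd _ _ ≫ Pi.π _ t

lemma objLoc.condition (t : F) :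
    objLoc.fst hJ i F h cl ≫ s.p.map (homOfLE (h t.1 t.2)) =
      objLoc.snd hJ i F h cl t ≫ Task.gOver hJ t.1 (cl t) := by
  unfold objLoc.fst objLoc.snd
  have h1 : mapA i F h ≫ Pi.π _ t = s.p.map (homOfLE (h t.1 t.2)) := Pi.lift_π _ _
  have h2 : mapB hJ F cl ≫ Pi.π _ t = Pi.π _ t ≫ Task.gOver hJ t.1 (cl t) := Pi.map_π _ _
  rw [← h1, Category.assoc, ← h2, ← Category.assoc, ← Category.assoc, pullback.condition]

/-- universal property -/
noncomputable def objLoc.lift {W : Over X₀} (a : W ⟶ s.p.obj i)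
    (b : ∀ t : F, W ⟶ Task.Y hJ t.1 (cl t))
    (hab : ∀ t : F, a ≫ s.p.map (homOfLE (h t.1 t.2)) = b t ≫ Task.gOver hJ t.1 (cl t)) :
    W ⟶ objLoc hJ i F h cl :=
  pullback.lift a (Pi.lift b) (by
    apply Pi.hom_ext
    intro t
    simp [mapA, mapB, hab t, Pi.lift_π, Pi.lift_π_assoc])

@[reassoc (attr := simp)]
lemma objLoc.lift_fst {W : Over X₀} (a : W ⟶ s.p.obj i)
    (b : ∀ t : F, W ⟶ Task.Y hJ t.1 (cl t))
    (hab : ∀ t : F, a ≫ s.p.map (homOfLE (h t.1 t.2)) = b t ≫ Task.gOver hJ t.1 (cl t)) :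
    objLoc.lift hJ i F h cl a b hab ≫ objLoc.fst hJ i F h cl = a :=
  pullback.lift_fst _ _ _

@[reassoc (attr := simp)]
lemma objLoc.lift_snd {W : Over X₀} (a : W ⟶ s.p.obj i)
    (b : ∀ t : F, W ⟶ Task.Y hJ t.1 (cl t))
    (hab : ∀ t : F, a ≫ s.p.map (homOfLE (h t.1 t.2)) = b t ≫ Task.gOver hJ t.1 (cl t)) (t : F) :
    objLoc.lift hJ i F h cl a b hab ≫ objLoc.snd hJ i F h cl t = b t := by
  unfold objLoc.lift objLoc.snd
  rw [← Category.assoc, pullback.lift_snd, Pi.lift_π]

lemma objLoc.hom_ext {W : Over X₀} {a b : W ⟶ objLoc hJ i F h cl}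
    (h₁ : a ≫ objLoc.fst hJ i F h cl = b ≫ objLoc.fst hJ i F h cl)
    (h₂ : ∀ t : F, a ≫ objLoc.snd hJ i F h cl t = b ≫ objLoc.snd hJ i F h cl t) : a = b := by
  refine pullback.hom_ext h₁ ?_
  apply Pi.hom_ext
  intro t
  have := h₂ t
  unfold objLoc.snd at this
  rw [Category.assoc, Category.assoc]
  exact this

/-- functoriality of `objLoc` in `(i, F)`. -/
noncomputable def objLoc.map {i i' : s.N} (hi : i ≤ i') {F F' : Finset (Task s)} (hF : F' ⊆ F)
    (h : ∀ t ∈ F, i ≤ t.idx) (h' : ∀ t ∈ F', i' ≤ t.idx) (cl : ∀ t : F, Fin (Task.n hJ t.1)) :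
    objLoc hJ i F h cl ⟶ objLoc hJ i' F' h' (fun t => cl ⟨t.1, hF t.2⟩) :=
  objLoc.lift hJ i' F' h' _ (objLoc.fst hJ i F h cl ≫ s.p.map (homOfLE hi))
    (fun t => objLoc.snd hJ i F h cl ⟨t.1, hF t.2⟩)
    (fun t => by
      rw [Category.assoc, ← Functor.map_comp]
      exact objLoc.condition hJ i F h cl ⟨t.1, hF t.2⟩)

@[reassoc (attr := simp)]
lemma objLoc.map_fst {i i' : s.N} (hi : i ≤ i') {F F' : Finset (Task s)} (hF : F' ⊆ F)
    (h : ∀ t ∈ F, i ≤ t.idx) (h' : ∀ t ∈ F', i' ≤ t.idx) (cl : ∀ t : F, Fin (Task.n hJ t.1)) :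
    objLoc.map hJ hi hF h h' cl ≫ objLoc.fst hJ i' F' h' _ =
      objLoc.fst hJ i F h cl ≫ s.p.map (homOfLE hi) := by
  simp [objLoc.map]

@[reassoc (attr := simp)]
lemma objLoc.map_snd {i i' : s.N} (hi : i ≤ i') {F F' : Finset (Task s)} (hF : F' ⊆ F)
    (h : ∀ t ∈ F, i ≤ t.idx) (h' : ∀ t ∈ F', i' ≤ t.idx) (cl : ∀ t : F, Fin (Task.n hJ t.1))
    (t : F') :
    objLoc.map hJ hi hF h h' cl ≫ objLoc.snd hJ i' F' h' _ t =
      objLoc.snd hJ i F h cl ⟨t.1, hF t.2⟩ := by
  simp [objLoc.map]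

end Loc

section Next

/-- index set of the one-step extension -/
def Nx : Type u := {x : s.N × Finset (Task s) // ∀ t ∈ x.2, x.1 ≤ t.idx}

variable {s}

instance : Preorder (Nx s) where
  le x y := x.1.1 ≤ y.1.1 ∧ y.1.2 ⊆ x.1.2
  le_refl x := ⟨le_refl _, Finset.Subset.refl _⟩
  le_trans x y z hxy hyz := ⟨le_trans hxy.1 hyz.1, Finset.Subset.trans hyz.2 hxy.2⟩

lemma Nx.le_def (x y : Nx s) : x ≤ y ↔ x.1.1 ≤ y.1.1 ∧ y.1.2 ⊆ x.1.2 := Iff.rfl

open Classical in
instance : IsDirected (Nx s) (· ≥ ·) where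
  directed x y := by
    obtain ⟨k, hkx, hky⟩ := directed_of (· ≥ ·) x.1.1 y.1.1
    refine ⟨⟨(k, x.1.2 ∪ y.1.2), ?_⟩, ?_, ?_⟩
    · intro t ht
      rcases Finset.mem_union.1 ht with ht | ht
      · exact le_trans hkx (x.2 t ht)
      · exact le_trans hky (y.2 t ht)
    · exact ⟨hkx, Finset.subset_union_left⟩
    · exact ⟨hky, Finset.subset_union_right⟩

instance : Nonempty (Nx s) := ⟨⟨(Classical.arbitrary _, ∅), by simp⟩⟩

/-- global choice functions -/
abbrev Ch (hJ : Finitary J) (s : Sys J S₀) : Type u := ∀ t : Task s, Fin (Task.n hJ t)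

variable (c : Ch hJ s)

/-- the object attached to `x : Nx s` and a global choice function. -/
noncomputable abbrev objG (x : Nx s) : Over X₀ := objLoc hJ x.1.1 x.1.2 x.2 (fun t => c t.1)

/-- the functor of the one-step extension. -/
noncomputable def nextFunctor : Nx s ⥤ Over X₀ where
  obj x := objG hJ c x
  map {x y} f := objLoc.map hJ (leOfHom f).1 (leOfHom f).2 x.2 y.2 (fun t => c t.1)
  map_id x := by
    apply objLoc.hom_ext
    · simp
    · intro t
      simp
  map_comp {x y z} f g := by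
    apply objLoc.hom_ext
    · simp [← Functor.map_comp]
    · intro t
      simp

end Next

section Compactness

variable {s}

omit [HasFiniteLimits C] in
lemma Sys.exists_lower (A : Finset s.N) : ∃ m : s.N, ∀ i ∈ A, m ≤ i :=
  (directed_id (r := (· ≥ ·)) (α := s.N)).finset_le A

/-- the sieve of arrows into `p(i)` which, for every task in `F`, factor through a member of the
chosen finite family (after composing with the transition map). -/
def covSieve (i : s.N) (F : Finset (Task s)) (h : ∀ t ∈ F, i ≤ t.idx) :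
    Sieve (s.p.obj i).left where
  arrows W f := ∀ t (ht : t ∈ F),
    Sieve.ofArrows (Task.V hJ t) (Task.g hJ t) (f ≫ (s.p.map (homOfLE (h t ht))).left)
  downward_closed := fun hf g t ht => by
    simpa using Sieve.downward_closed _ (hf t ht) g

open Classical in
lemma covSieve_mem (i : s.N) (F : Finset (Task s)) (h : ∀ t ∈ F, i ≤ t.idx) :
    covSieve hJ i F h ∈ J (s.p.obj i).left := by
  induction F using Finset.induction_on with
  | empty =>
    refine J.superset_covering ?_ (J.top_mem _)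
    intro W f _ t ht
    simp at ht
  | insert a F ha ih =>
    have h' : ∀ t ∈ F, i ≤ t.idx := fun t ht => h t (Finset.mem_insert_of_mem ht)
    have ha' : i ≤ a.idx := h a (Finset.mem_insert_self _ _)
    refine J.superset_covering ?_ (J.intersection_covering (ih h')
      (J.pullback_stable (s.p.map (homOfLE ha')).left (Task.cov hJ a)))
    rintro W f ⟨hf1, hf2⟩ t ht
    rcases Finset.mem_insert.1 ht with rfl | ht
    · exact hf2
    · exact hf1 t ht

lemma exists_factor (i : s.N) (F : Finset (Task s)) (h : ∀ t ∈ F, i ≤ t.idx)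
    {W : C} (f : W ⟶ (s.p.obj i).left) (hf : covSieve hJ i F h f) :
    ∃ (cl : ∀ t : F, Fin (Task.n hJ t.1)),
      Nonempty (Over.mk (f ≫ (s.p.obj i).hom) ⟶ objLoc hJ i F h cl) := by
  have key : ∀ t : F, ∃ (k : Fin (Task.n hJ t.1)) (a : W ⟶ Task.V hJ t.1 k),
      a ≫ Task.g hJ t.1 k = f ≫ (s.p.map (homOfLE (h t.1 t.2))).left := by
    intro t
    have := hf t.1 t.2
    rw [Sieve.mem_ofArrows_iff] at this
    obtain ⟨k, a, ha⟩ := this
    exact ⟨k, a, ha.symm⟩
  choose k a ha using key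
  refine ⟨k, ⟨objLoc.lift hJ i F h k (Over.homMk f) (fun t => Over.homMk (a t) ?_) ?_⟩⟩
  · have := Over.w (s.p.map (homOfLE (h t.1 t.2)))
    simp only [Task.Y, Over.mk_hom, Over.mk_left]
    rw [← Category.assoc, ha t, Category.assoc, this]
  · intro t
    ext
    simp only [Task.gOver, Over.comp_left, Over.homMk_left]
    exact (ha t).symm

open Classical in
lemma exists_bad_local (F : Finset (Task s)) :
    ∃ (cl : ∀ t : F, Fin (Task.n hJ t.1)),
      ∀ (i : s.N) (h : ∀ t ∈ F, i ≤ t.idx), ¬ Good J S₀ (objLoc hJ i F h cl) := by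
  by_contra hcon
  push Not at hcon
  choose ι hι good using hcon
  -- a default local choice
  let cl₀ : ∀ t : F, Fin (Task.n hJ t.1) := fun t => ⟨0, Task.n_pos hJ t.1⟩
  obtain ⟨i, hi⟩ := Sys.exists_lower (Finset.univ.image ι)
  have hi' : ∀ cl, i ≤ ι cl := fun cl => hi _ (Finset.mem_image_of_mem _ (Finset.mem_univ _))
  have h : ∀ t ∈ F, i ≤ t.idx := fun t ht => le_trans (hi' cl₀) (hι cl₀ t ht)
  apply s.bad i
  refine Good.of_cover _ (covSieve_mem hJ i F h) ?_
  intro W f hf
  obtain ⟨cl, ⟨l⟩⟩ := exists_factor hJ i F h f hf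
  refine Good.of_hom l ?_
  exact Good.of_hom (objLoc.map hJ (hi' cl) (Finset.Subset.refl F) h (hι cl) cl) (good cl)

open Classical in
/-- Rado selection: a global choice function all of whose associated objects are bad. -/
lemma exists_bad_global :
    ∃ c : Ch hJ s, ∀ x : Nx s, ¬ Good J S₀ (objG hJ c x) := by
  choose cl hcl using exists_bad_local (s := s) hJ
  let g : Finset (Task s) → Ch hJ s := fun F t =>
    if ht : t ∈ F then cl F ⟨t, ht⟩ else ⟨0, Task.n_pos hJ t⟩
  obtain ⟨χ, hχ⟩ := Finset.rado_selection (β := fun t : Task s => Fin (Task.n hJ t)) g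
  refine ⟨χ, fun x => ?_⟩
  obtain ⟨T, hT, hχT⟩ := hχ x.1.2
  -- find an index below `x.1.1` and all indices of tasks in `T`
  obtain ⟨i, hi⟩ := Sys.exists_lower (insert x.1.1 (T.image Task.idx))
  have hix : i ≤ x.1.1 := hi _ (Finset.mem_insert_self _ _)
  have hiT : ∀ t ∈ T, i ≤ t.idx := fun t ht =>
    hi _ (Finset.mem_insert_of_mem (Finset.mem_image_of_mem _ ht))
  have hbad := hcl T i hiT
  intro hgood
  apply hbad
  have e : (fun t : x.1.2 => χ t.1) = (fun t : x.1.2 => cl T ⟨t.1, hT t.2⟩) := by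
    funext t
    rw [hχT t.1 t.2]
    simp [g, hT t.2]
  have hgood' : Good J S₀ (objLoc hJ x.1.1 x.1.2 x.2 (fun t : x.1.2 => cl T ⟨t.1, hT t.2⟩)) := by
    rw [← e]
    exact hgood
  exact Good.of_hom (objLoc.map hJ hix hT hiT x.2 (cl T)) hgood'

end Compactness

section NextSys

/-- the chosen global choice function -/
noncomputable def Sys.choice : Ch hJ s := (exists_bad_global (s := s) hJ).choose

/-- The one-step extension of a system: all covering sieves of all objects of `s` get split. -/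
noncomputable def Sys.next : Sys J S₀ where
  N := Nx s
  p := nextFunctor hJ (s.choice hJ)
  bad := (exists_bad_global (s := s) hJ).choose_spec

/-- the inclusion of the index sets -/
noncomputable def Sys.incl (i : s.N) : (s.next hJ).N := ⟨(i, ∅), by simp⟩

lemma Sys.incl_mono : Monotone (s.incl hJ) := fun _ _ h => ⟨h, Finset.Subset.refl _⟩

/-- the inclusion functor -/
noncomputable def Sys.inclFunctor : s.N ⥤ (s.next hJ).N := (s.incl_mono hJ).functor

/-- the comparison `p⁺(ι i) ⟶ p(i)`. -/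
noncomputable def Sys.theta : s.inclFunctor hJ ⋙ (s.next hJ).p ⟶ s.p where
  app i := objLoc.fst hJ i ∅ (by simp) _
  naturality i j f := by
    simp only [Functor.comp_obj, Functor.comp_map]
    exact objLoc.map_fst hJ _ _ _ _ _

open Classical in
/-- every covering sieve of an object of `s` is split in `s.next`. -/
lemma Sys.split (i : s.N) (R : Sieve (s.p.obj i).left) (hR : R ∈ J (s.p.obj i).left) :
    ∃ (j : (s.next hJ).N) (hj : j ≤ s.incl hJ i) (Y : C) (g : Y ⟶ (s.p.obj i).left) (_ : R g)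
      (a : ((s.next hJ).p.obj j).left ⟶ Y),
      a ≫ g = ((s.next hJ).p.map (homOfLE hj) ≫ (s.theta hJ).app i).left := by
  let t : Task s := ⟨i, R, hR⟩
  let j : (s.next hJ).N := ⟨(i, {t}), by simp [t]⟩
  have hj : j ≤ s.incl hJ i := ⟨le_refl _, by simp [Sys.incl]⟩
  have ht : t ∈ ({t} : Finset (Task s)) := Finset.mem_singleton_self t
  refine ⟨j, hj, Task.V hJ t (s.choice hJ t), Task.g hJ t (s.choice hJ t), Task.mem hJ t _,
    (objLoc.snd hJ i {t} j.2 (fun t => s.choice hJ t.1) ⟨t, ht⟩).left, ?_⟩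
  have h1 : (s.next hJ).p.map (homOfLE hj) ≫ (s.theta hJ).app i =
      objLoc.fst hJ i {t} j.2 (fun t => s.choice hJ t.1) ≫ s.p.map (homOfLE (le_refl i)) :=
    objLoc.map_fst hJ _ _ _ _ _
  have h2 := objLoc.condition hJ i {t} j.2 (fun t => s.choice hJ t.1) ⟨t, ht⟩
  rw [h1]
  have h3 : objLoc.fst hJ i {t} j.2 (fun t => s.choice hJ t.1) ≫ s.p.map (homOfLE (le_refl i)) =
      objLoc.snd hJ i {t} j.2 (fun t => s.choice hJ t.1) ⟨t, ht⟩ ≫
        Task.gOver hJ t (s.choice hJ t) := h2
  rw [h3]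
  simp only [Task.gOver, Over.comp_left, Over.homMk_left]
  rfl

end NextSys

end Groth.Agent.Lib.Helper74.Deligne
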