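import Groth.Agent.Lib.Helper74.Deligne.Step

/-!
# Deligne completeness, part 3: the Henkin tower and its limit fiber functor (helper74)

`tower`: iterate `Sys.next` starting from the single object `X₀`.  `Phi`: the colimit of the
fiber functors of the tower; it is left exact, continuous (`Phi_jointly_surjective`) and has an
element `basePt` over `X₀` which is not hit by `S₀` (`basePt_not_hit`).
-/

set_option autoImplicit false
universe u
open CategoryTheory CategoryTheory.Limits Opposite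

namespace Groth.Agent.Lib.Helper74.Deligne

open GrothendieckTopology GrothendieckTopology.Point GrothendieckTopology.Point.ofIsCofiltered

section FibDesc

variable {C : Type u} [SmallCategory C] {N : Type u} [SmallCategory N] (p : N ⥤ C)

instance (priority := 100) instInitiallySmallOfSmall : InitiallySmall.{u} N := initiallySmall_of_essentiallySmall _

/-- descent of a function out of the fiber -/
noncomputable def fibDesc {X : C} {T : Type u}
    (φ : ∀ U : N, (p.obj U ⟶ X) → T)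
    (hφ : ∀ {U V : N} (g : V ⟶ U) (f : p.obj U ⟶ X), φ V (p.map g ≫ f) = φ U f) :
    (ofIsCofiltered.fiber.{u} p).obj X → T :=
  fun x => (colimit.desc (p.op ⋙ shrinkYoneda.{u}.obj X)
    { pt := T
      ι := { app := fun U => TypeCat.ofHom (fun y => φ U.unop (shrinkYonedaObjObjEquiv y))
             naturality := by
              intro U V g
              ext y
              obtain ⟨f, rfl⟩ := shrinkYonedaObjObjEquiv.symm.surjective y
              simp [shrinkYoneda_obj_map_shrinkYonedaObjObjEquiv_symm.{u}, hφ] } }) x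

lemma fibDesc_fiberMk {X : C} {T : Type u}
    (φ : ∀ U : N, (p.obj U ⟶ X) → T)
    (hφ : ∀ {U V : N} (g : V ⟶ U) (f : p.obj U ⟶ X), φ V (p.map g ≫ f) = φ U f)
    {U : N} (f : p.obj U ⟶ X) :
    fibDesc p φ hφ (fiberMk f) = φ U f := by
  unfold fibDesc fiberMk
  rw [← ConcreteCategory.comp_apply, colimit.ι_desc]
  simp

variable [IsCofiltered N]

lemma exists_of_fiberMk_eq {X : C} {U₁ U₂ : N} {f₁ : p.obj U₁ ⟶ X} {f₂ : p.obj U₂ ⟶ X}
    (h : fiberMk.{u} f₁ = fiberMk.{u} f₂) :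
    ∃ (V : N) (g₁ : V ⟶ U₁) (g₂ : V ⟶ U₂), p.map g₁ ≫ f₁ = p.map g₂ ≫ f₂ := by
  let W := IsCofiltered.min U₁ U₂
  let a₁ : W ⟶ U₁ := IsCofiltered.minToLeft _ _
  let a₂ : W ⟶ U₂ := IsCofiltered.minToRight _ _
  have h' : fiberMk.{u} (p.map a₁ ≫ f₁) = fiberMk.{u} (p.map a₂ ≫ f₂) := by
    rw [fiberMk_map_comp, fiberMk_map_comp, h]
  obtain ⟨V, g, hg⟩ := exists_of_fiberMk_eq_fiberMk h'
  refine ⟨V, g ≫ a₁, g ≫ a₂, ?_⟩
  simpa using hg

instance preservesFiniteLimits_fiber [HasFiniteLimits C] :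
    PreservesFiniteLimits (ofIsCofiltered.fiber.{u} p) := by
  have : PreservesFiniteLimits (shrinkYoneda.{u} (C := C)) :=
    preservesFiniteLimits_of_natIso (shrinkYonedaIsoYoneda (C := C)).symm
  unfold ofIsCofiltered.fiber
  infer_instance

end FibDesc

section Tower

variable {C : Type u} [SmallCategory C] [HasFiniteLimits C] {J : GrothendieckTopology C}
  {X₀ : C} {S₀ : Sieve X₀} (hJ : Finitary J)

/-- the underlying functor to `C` -/
noncomputable abbrev Sys.q (s : Sys J S₀) : s.N ⥤ C := s.p ⋙ Over.forget X₀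

/-- the fiber functor of a system -/
noncomputable abbrev Sys.fib (s : Sys J S₀) : C ⥤ Type u := ofIsCofiltered.fiber.{u} s.q

/-- `theta` at the level of `C`. -/
noncomputable def Sys.thetaC (s : Sys J S₀) : s.inclFunctor hJ ⋙ (s.next hJ).q ⟶ s.q :=
  Functor.whiskerRight (s.theta hJ) (Over.forget X₀)

lemma Sys.thetaC_naturality (s : Sys J S₀) {U V : s.N} (g : V ⟶ U) :
    (s.next hJ).q.map ((s.inclFunctor hJ).map g) ≫ (s.thetaC hJ).app U =
      (s.thetaC hJ).app V ≫ s.q.map g :=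
  (s.thetaC hJ).naturality g

/-- the function underlying the transition map. -/
noncomputable def Sys.fibFun (s : Sys J S₀) (X : C) (U : s.N) (f : s.q.obj U ⟶ X) :
    (s.next hJ).fib.obj X :=
  fiberMk.{u} (p := (s.next hJ).q) (U := (s.inclFunctor hJ).obj U) ((s.thetaC hJ).app U ≫ f)

lemma Sys.fibFun_spec (s : Sys J S₀) (X : C) {U V : s.N} (g : V ⟶ U) (f : s.q.obj U ⟶ X) :
    s.fibFun hJ X V (s.q.map g ≫ f) = s.fibFun hJ X U f := by
  unfold Sys.fibFun
  rw [← Category.assoc, ← s.thetaC_naturality hJ g, Category.assoc, fiberMk_map_comp]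

/-- the transition map of fiber functors. -/
noncomputable def Sys.fibMap (s : Sys J S₀) : s.fib ⟶ (s.next hJ).fib where
  app X := TypeCat.ofHom (fibDesc s.q (s.fibFun hJ X) (s.fibFun_spec hJ X))
  naturality X X' h := by
    ext x
    obtain ⟨U, f, rfl⟩ := fiberMk_jointly_surjective x
    simp only [TypeCat.Fun.toFun_apply, comp_apply, TypeCat.hom_ofHom, TypeCat.Fun.coe_mk]
    rw [fiber_map_fiberMk]
    rw [fibDesc_fiberMk s.q (s.fibFun hJ X') (s.fibFun_spec hJ X'),
      fibDesc_fiberMk s.q (s.fibFun hJ X) (s.fibFun_spec hJ X)]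
    simp [Sys.fibFun]

lemma Sys.fibMap_fiberMk (s : Sys J S₀) {X : C} {U : s.N} (f : s.q.obj U ⟶ X) :
    ((s.fibMap hJ).app X) (fiberMk.{u} f) =
      fiberMk.{u} (p := (s.next hJ).q) (U := (s.inclFunctor hJ).obj U)
        ((s.thetaC hJ).app U ≫ f) := by
  dsimp only [Sys.fibMap]
  rw [TypeCat.ofHom_apply, fibDesc_fiberMk s.q (s.fibFun hJ X) (s.fibFun_spec hJ X)]
  rfl

variable (h₀ : S₀ ∉ J X₀)

/-- the base system: the single object `X₀` over itself. -/
noncomputable def baseSys : Sys J S₀ where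
  N := PUnit.{u+1}
  p := (Functor.const _).obj (Over.mk (𝟙 X₀))
  bad := fun _ hg => h₀ (by simpa [Good] using hg)

/-- the Henkin tower of systems. -/
noncomputable def tower : ℕ → Sys J S₀
  | 0 => baseSys h₀
  | n+1 => (tower n).next hJ

/-- the sequence of fiber functors -/
noncomputable def towerF : ℕ ⥤ (C ⥤ Type u) :=
  Functor.ofSequence (X := fun n => (tower hJ h₀ n).fib) (fun n => (tower hJ h₀ n).fibMap hJ)

/-- the fiber functor of the limit point -/
noncomputable def Phi : C ⥤ Type u := (towerF hJ h₀).flip ⋙ colim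

instance : PreservesFiniteLimits (Phi hJ h₀) := by
  have : PreservesFiniteLimits (towerF hJ h₀).flip := by
    constructor
    intro K _ _
    constructor
    intro G
    apply preservesLimit_of_evaluation
    intro n
    have : PreservesFiniteLimits ((towerF hJ h₀).flip ⋙ (evaluation ℕ (Type u)).obj n) := by
      change PreservesFiniteLimits (tower hJ h₀ n).fib
      infer_instance
    infer_instance
  unfold Phi
  infer_instance

/-- the canonical map from the `n`-th stage -/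
noncomputable def toPhi (n : ℕ) (X : C) : (tower hJ h₀ n).fib.obj X → (Phi hJ h₀).obj X :=
  fun x => colimit.ι ((towerF hJ h₀).flip.obj X) n x

lemma toPhi_jointly_surjective {X : C} (x : (Phi hJ h₀).obj X) :
    ∃ (n : ℕ) (U : (tower hJ h₀ n).N) (f : (tower hJ h₀ n).q.obj U ⟶ X),
      toPhi hJ h₀ n X (fiberMk.{u} f) = x := by
  obtain ⟨n, y, rfl⟩ := Types.jointly_surjective_of_isColimit
    (colimit.isColimit ((towerF hJ h₀).flip.obj X)) x
  obtain ⟨U, f, rfl⟩ := fiberMk_jointly_surjective y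
  exact ⟨n, U, f, rfl⟩

lemma toPhi_succ (n : ℕ) (X : C) (x : (tower hJ h₀ n).fib.obj X) :
    toPhi hJ h₀ (n + 1) X (((tower hJ h₀ n).fibMap hJ).app X x) = toPhi hJ h₀ n X x := by
  have := colimit.w ((towerF hJ h₀).flip.obj X) (homOfLE (Nat.le_add_right n 1))
  have h2 : ((towerF hJ h₀).flip.obj X).map (homOfLE (Nat.le_add_right n 1)) =
      ((tower hJ h₀ n).fibMap hJ).app X := by
    dsimp [towerF]
    rw [Functor.ofSequence_map_homOfLE_succ]
  rw [h2] at this
  exact ConcreteCategory.congr_hom this x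

lemma Phi_map_toPhi (n : ℕ) {X X' : C} (h : X ⟶ X') (x : (tower hJ h₀ n).fib.obj X) :
    (Phi hJ h₀).map h (toPhi hJ h₀ n X x) = toPhi hJ h₀ n X' ((tower hJ h₀ n).fib.map h x) := by
  unfold Phi toPhi
  have := colimit.ι_map ((towerF hJ h₀).flip.map h) n
  exact ConcreteCategory.congr_hom this x

section Base

variable (s : Sys J S₀)

/-- the base element of the fiber at `X₀`: the class of a structure map. -/
noncomputable def Sys.baseElt (U : s.N) : s.fib.obj X₀ :=
  fiberMk.{u} (p := s.q) (U := U) (s.p.obj U).hom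

lemma Sys.baseElt_eq (U V : s.N) : s.baseElt U = s.baseElt V := by
  unfold Sys.baseElt
  have h1 : fiberMk.{u} (p := s.q) (s.q.map (IsCofiltered.minToLeft U V) ≫ (s.p.obj U).hom) =
      fiberMk.{u} (p := s.q) (s.p.obj U).hom := fiberMk_map_comp _ _ _
  have h2 : fiberMk.{u} (p := s.q) (s.q.map (IsCofiltered.minToRight U V) ≫ (s.p.obj V).hom) =
      fiberMk.{u} (p := s.q) (s.p.obj V).hom := fiberMk_map_comp _ _ _
  rw [← h1, ← h2]
  congr 1
  exact (Over.w (s.p.map (IsCofiltered.minToLeft U V))).trans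
    (Over.w (s.p.map (IsCofiltered.minToRight U V))).symm

lemma Sys.fibMap_baseElt (U : s.N) :
    ((s.fibMap hJ).app X₀) (s.baseElt U) = (s.next hJ).baseElt ((s.inclFunctor hJ).obj U) := by
  unfold Sys.baseElt
  rw [Sys.fibMap_fiberMk]
  congr 1
  exact Over.w ((s.theta hJ).app U)

/-- the elements of the fiber at `X₀` which are hit by `S₀`. -/
def Sys.Hit : Set (s.fib.obj X₀) :=
  {z | ∃ (U : s.N) (f : s.q.obj U ⟶ X₀), S₀ f ∧ z = fiberMk.{u} f}

lemma Sys.fibMap_hit {z : s.fib.obj X₀} (hz : z ∈ s.Hit) :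
    ((s.fibMap hJ).app X₀) z ∈ (s.next hJ).Hit := by
  obtain ⟨U, f, hf, rfl⟩ := hz
  rw [Sys.fibMap_fiberMk]
  exact ⟨_, _, S₀.downward_closed hf _, rfl⟩

lemma Sys.baseElt_not_hit (U : s.N) : s.baseElt U ∉ s.Hit := by
  rintro ⟨V, f, hf, h⟩
  obtain ⟨W, g₁, g₂, hg⟩ := exists_of_fiberMk_eq s.q h
  have h1 : s.q.map g₁ ≫ (s.p.obj U).hom = (s.p.obj W).hom := Over.w (s.p.map g₁)
  rw [h1] at hg
  apply not_mem_of_not_good (s.bad W)
  rw [hg]
  exact S₀.downward_closed hf _

end Base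

/-- the base point of the fiber of `Phi` at `X₀`. -/
noncomputable def basePt : (Phi hJ h₀).obj X₀ :=
  toPhi hJ h₀ 0 X₀ ((tower hJ h₀ 0).baseElt (Classical.arbitrary _))

lemma toPhi_baseElt (n : ℕ) (U : (tower hJ h₀ n).N) :
    toPhi hJ h₀ n X₀ ((tower hJ h₀ n).baseElt U) = basePt hJ h₀ := by
  induction n with
  | zero =>
    unfold basePt
    rw [Sys.baseElt_eq _ U]
  | succ n ih =>
    let V : (tower hJ h₀ n).N := Classical.arbitrary _
    have h1 := toPhi_succ hJ h₀ n X₀ ((tower hJ h₀ n).baseElt V)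
    rw [Sys.fibMap_baseElt] at h1
    rw [← ih V, ← h1]
    exact congrArg (toPhi hJ h₀ (n + 1) X₀) (Sys.baseElt_eq (tower hJ h₀ (n + 1)) _ _)

lemma towerF_map_spec (n m : ℕ) (hm : n ≤ m) :
    (∀ z ∈ (tower hJ h₀ n).Hit,
      ((towerF hJ h₀).map (homOfLE hm)).app X₀ z ∈ (tower hJ h₀ m).Hit) ∧
    (∀ U : (tower hJ h₀ n).N, ∃ V : (tower hJ h₀ m).N,
      ((towerF hJ h₀).map (homOfLE hm)).app X₀ ((tower hJ h₀ n).baseElt U) =
        (tower hJ h₀ m).baseElt V) := by
  induction m, hm using Nat.le_induction with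
  | base =>
    have e : (towerF hJ h₀).map (homOfLE (le_refl n)) = 𝟙 _ :=
      CategoryTheory.Functor.map_id _ _
    have e' : ∀ z : (tower hJ h₀ n).fib.obj X₀,
        ((towerF hJ h₀).map (homOfLE (le_refl n))).app X₀ z = z := by
      intro z
      rw [e]
      rfl
    refine ⟨fun z hz => ?_, fun U => ⟨U, e' _⟩⟩
    rw [e' z]
    exact hz
  | succ m hm ih =>
    have e : (towerF hJ h₀).map (homOfLE (hm.trans (Nat.le_succ m))) =
        (towerF hJ h₀).map (homOfLE hm) ≫ (tower hJ h₀ m).fibMap hJ := by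
      have : homOfLE (hm.trans (Nat.le_succ m)) = homOfLE hm ≫ homOfLE (Nat.le_add_right m 1) := rfl
      rw [this, Functor.map_comp]
      congr 1
      exact Functor.ofSequence_map_homOfLE_succ _ m
    refine ⟨fun z hz => ?_, fun U => ?_⟩
    · rw [e]
      exact Sys.fibMap_hit hJ _ (ih.1 z hz)
    · obtain ⟨V, hV⟩ := ih.2 U
      refine ⟨((tower hJ h₀ m).inclFunctor hJ).obj V, ?_⟩
      rw [e]
      show ((tower hJ h₀ m).fibMap hJ).app X₀
        (((towerF hJ h₀).map (homOfLE hm)).app X₀ ((tower hJ h₀ n).baseElt U)) = _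
      rw [hV]
      exact Sys.fibMap_baseElt hJ (tower hJ h₀ m) V

/-- no element in the image of `S₀` hits the base point. -/
lemma basePt_not_hit {Y : C} (g : Y ⟶ X₀) (hg : S₀ g) (y : (Phi hJ h₀).obj Y) :
    (Phi hJ h₀).map g y ≠ basePt hJ h₀ := by
  obtain ⟨n, U, a, rfl⟩ := toPhi_jointly_surjective hJ h₀ y
  rw [Phi_map_toPhi, fiber_map_fiberMk, ← toPhi_baseElt hJ h₀ n U]
  intro h
  have hz : fiberMk.{u} (p := (tower hJ h₀ n).q) (a ≫ g) ∈ (tower hJ h₀ n).Hit :=
    ⟨U, a ≫ g, S₀.downward_closed hg a, rfl⟩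
  obtain ⟨m, φ, hφ⟩ := (Types.FilteredColimit.isColimit_eq_iff'
    (colimit.isColimit ((towerF hJ h₀).flip.obj X₀)) _ _).1 h
  have hm : n ≤ m := leOfHom φ
  obtain rfl : φ = homOfLE hm := Subsingleton.elim _ _
  obtain ⟨h1, h2⟩ := towerF_map_spec hJ h₀ n m hm
  obtain ⟨V, hV⟩ := h2 U
  have := h1 _ hz
  apply Sys.baseElt_not_hit (tower hJ h₀ m) V
  rw [← hV]
  have e : ((towerF hJ h₀).flip.obj X₀).map (homOfLE hm) = ((towerF hJ h₀).map (homOfLE hm)).app X₀ :=
    rfl
  rw [e] at hφ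
  rw [← hφ]
  exact this

/-- `Phi` is continuous: covering sieves induce jointly surjective families. -/
lemma Phi_jointly_surjective {X : C} (R : Sieve X) (hR : R ∈ J X) (x : (Phi hJ h₀).obj X) :
    ∃ (Y : C) (f : Y ⟶ X) (_ : R f) (y : (Phi hJ h₀).obj Y), (Phi hJ h₀).map f y = x := by
  obtain ⟨n, U, f, rfl⟩ := toPhi_jointly_surjective hJ h₀ x
  let s := tower hJ h₀ n
  have hR' : R.pullback f ∈ J (s.p.obj U).left := J.pullback_stable f hR
  obtain ⟨j, hj, Y, g, hg, a, ha⟩ := s.split hJ U (R.pullback f) hR'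
  refine ⟨Y, g ≫ f, hg, toPhi hJ h₀ (n + 1) Y (fiberMk.{u} (p := (s.next hJ).q) (U := j) a), ?_⟩
  have h1 := Phi_map_toPhi hJ h₀ (n + 1) (g ≫ f)
    (fiberMk.{u} (p := (s.next hJ).q) (U := j) a)
  have h2 : (s.next hJ).fib.map (g ≫ f) (fiberMk.{u} (p := (s.next hJ).q) (U := j) a) =
      fiberMk.{u} (p := (s.next hJ).q) (U := j) (a ≫ g ≫ f) :=
    fiber_map_fiberMk (p := (s.next hJ).q) a (g ≫ f)
  have e : a ≫ g ≫ f = (s.next hJ).q.map (homOfLE hj) ≫ (s.thetaC hJ).app U ≫ f := by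
    rw [← Category.assoc, ha]
    simp [Sys.thetaC]
  have h3 : fiberMk.{u} (p := (s.next hJ).q) (U := j) (a ≫ g ≫ f) =
      ((s.fibMap hJ).app X) (fiberMk.{u} (p := s.q) (U := U) f) := by
    rw [Sys.fibMap_fiberMk]
    exact (congrArg (fiberMk.{u} (p := (s.next hJ).q) (U := j)) e).trans
      (fiberMk_map_comp (p := (s.next hJ).q) (homOfLE hj) ((s.thetaC hJ).app U ≫ f))
  have h4 := toPhi_succ hJ h₀ n X (fiberMk.{u} (p := s.q) (U := U) f)
  refine h1.trans ?_
  refine Eq.trans ?_ h4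
  exact congrArg (toPhi hJ h₀ (n + 1) X) (h2.trans h3)

end Tower

end Groth.Agent.Lib.Helper74.Deligne
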